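import Cfsg.Agent.H0.PG2
set_option maxRecDepth 100000
set_option Elab.async false
set_option linter.unusedSectionVars false
namespace H0.MU33
open H0 BN 
noncomputable def n0 : Net := (Net.cons (nat_lit 16) (nat_lit 0x77ce) (Net.cons (nat_lit 8) (nat_lit 0xa4004c) (Net.cons (nat_lit 4) (nat_lit 0x6040200) (Net.cons (nat_lit 2) (nat_lit 0x30002123) (Net.cons (nat_lit 1) (nat_lit 0x54114005) (Net.cons (nat_lit 2) (nat_lit 0x2000) (Net.cons (nat_lit 4) (nat_lit 0x6000200) (Net.cons (nat_lit 8) (nat_lit 0xa4004c) (Net.cons (nat_lit 16) (nat_lit 0x77c6) Net.nil)))))))))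
noncomputable def n1 : Net := (Net.cons (nat_lit 16) (nat_lit 0xbad) (Net.cons (nat_lit 8) (nat_lit 0x7d00fc) (Net.cons (nat_lit 4) (nat_lit 0xe040f0e) (Net.cons (nat_lit 2) (nat_lit 0x13022123) (Net.cons (nat_lit 1) (nat_lit 0x54410551) (Net.cons (nat_lit 2) (nat_lit 0x2020002) (Net.cons (nat_lit 4) (nat_lit 0xc040c04) (Net.cons (nat_lit 8) (nat_lit 0x74006e) (Net.cons (nat_lit 16) (nat_lit 0x328) Net.nil)))))))))
noncomputable def n2 : Net := (Net.cons (nat_lit 16) (nat_lit 0xf915) (Net.cons (nat_lit 8) (nat_lit 0x6700cb) (Net.cons (nat_lit 4) (nat_lit 0x70d000d) (Net.cons (nat_lit 2) (nat_lit 0x20110320) (Net.cons (nat_lit 1) (nat_lit 0x14144551) (Net.cons (nat_lit 2) (nat_lit 0x22200000) (Net.cons (nat_lit 4) (nat_lit 0x602040c) (Net.cons (nat_lit 8) (nat_lit 0x3e00c2) (Net.cons (nat_lit 16) (nat_lit 0xf0b0) Net.nil)))))))))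
noncomputable def n3 : Net := (Net.cons (nat_lit 16) (nat_lit 0x2b50) (Net.cons (nat_lit 8) (nat_lit 0x8a0030) (Net.cons (nat_lit 4) (nat_lit 0x20c040c) (Net.cons (nat_lit 2) (nat_lit 0x23300212) (Net.cons (nat_lit 1) (nat_lit 0x5511000) (Net.cons (nat_lit 4) (nat_lit 0x20c000c) (Net.cons (nat_lit 8) (nat_lit 0x8a0030) (Net.cons (nat_lit 16) (nat_lit 0x2b10) Net.nil))))))))
noncomputable def n4 : Net := (Net.cons (nat_lit 16) (nat_lit 0xd7a2) (Net.cons (nat_lit 8) (nat_lit 0xee0050) (Net.cons (nat_lit 4) (nat_lit 0x7060d00) (Net.cons (nat_lit 2) (nat_lit 0x30320100) (Net.cons (nat_lit 1) (nat_lit 0x14011004) (Net.cons (nat_lit 2) (nat_lit 0x22022002) (Net.cons (nat_lit 4) (nat_lit 0x40a0c00) (Net.cons (nat_lit 8) (nat_lit 0x740076) (Net.cons (nat_lit 16) (nat_lit 0xde8a) Net.nil)))))))))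
noncomputable def n5 : Net := (Net.cons (nat_lit 16) (nat_lit 0xde8a) (Net.cons (nat_lit 8) (nat_lit 0x1d0076) (Net.cons (nat_lit 4) (nat_lit 0xf0300) (Net.cons (nat_lit 2) (nat_lit 0x13231202) (Net.cons (nat_lit 1) (nat_lit 0x44010104) (Net.cons (nat_lit 2) (nat_lit 0x20000) (Net.cons (nat_lit 4) (nat_lit 0x4000200) (Net.cons (nat_lit 8) (nat_lit 0xd40050) (Net.cons (nat_lit 16) (nat_lit 0xd7a2) Net.nil)))))))))
noncomputable def n6 : Net := (Net.cons (nat_lit 16) (nat_lit 0xf800) (Net.cons (nat_lit 8) (nat_lit 0xa900fc) (Net.cons (nat_lit 4) (nat_lit 0x10b0b00) (Net.cons (nat_lit 2) (nat_lit 0x23212000) (Net.cons (nat_lit 1) (nat_lit 0x41415404) (Net.cons (nat_lit 2) (nat_lit 0x2020200) (Net.cons (nat_lit 4) (nat_lit 0x6040800) (Net.cons (nat_lit 8) (nat_lit 0x2400fc) (Net.cons (nat_lit 16) (nat_lit 0xf400) Net.nil)))))))))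
noncomputable def n7 : Net := (Net.cons (nat_lit 16) (nat_lit 0xf400) (Net.cons (nat_lit 8) (nat_lit 0x3600fc) (Net.cons (nat_lit 4) (nat_lit 0x1030700) (Net.cons (nat_lit 2) (nat_lit 0x10102100) (Net.cons (nat_lit 1) (nat_lit 0x44444504) (Net.cons (nat_lit 2) (nat_lit 0x2220000) (Net.cons (nat_lit 4) (nat_lit 0xa000400) (Net.cons (nat_lit 8) (nat_lit 0x2800fc) (Net.cons (nat_lit 16) (nat_lit 0xf800) Net.nil)))))))))
noncomputable def n8 : Net := (Net.cons (nat_lit 16) (nat_lit 0xa745) (Net.cons (nat_lit 8) (nat_lit 0x1400ec) (Net.cons (nat_lit 4) (nat_lit 0x1080304) (Net.cons (nat_lit 2) (nat_lit 0x23030312) (Net.cons (nat_lit 1) (nat_lit 0x10445104) (Net.cons (nat_lit 2) (nat_lit 0x200202) (Net.cons (nat_lit 4) (nat_lit 0x2080000) (Net.cons (nat_lit 8) (nat_lit 0x9400fc) (Net.cons (nat_lit 16) (nat_lit 0xa8bc) Net.nil)))))))))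
def B : List (List ℕ) := [[0, 0], [1, 2], [2, 1], [3, 3], [4, 5], [5, 4], [6, 7], [7, 6], [6, 6, 6, 6, 6, 6, 6, 6], [4, 4, 4, 4, 4, 4, 4, 4], [5, 5, 3, 5, 7], [3, 4, 3, 4, 3, 4, 3, 4, 3, 4, 3, 4, 3, 4, 3, 4], [3, 4, 3, 5, 3, 4, 3, 5, 3, 4, 3, 5], [3, 5, 3, 5, 3, 5, 3, 5, 3, 5, 3, 5, 3, 5, 3, 5], [5, 3, 4, 7, 7, 7, 7], [5, 6, 5, 6, 5, 6], [3, 7, 3, 5, 3, 7, 7], [1, 1, 1, 1, 1, 1], [2, 0, 1, 3], [0, 1, 0, 2, 2, 0, 2, 0, 2, 5], [0, 1, 0, 1, 0, 1, 0, 1, 0, 1, 0, 1, 0, 1], [0, 1, 0, 2, 0, 1, 0, 2, 0, 1, 0, 2], [0, 2, 0, 2, 0, 2, 0, 2, 0, 2, 0, 2, 0, 2], [2, 3, 1, 4, 3, 5], [0, 4, 4, 0, 5, 5], [0, 3, 0, 3, 0, 3], [1, 7, 0, 2, 3, 7, 7], [0, 6, 0, 2, 2, 7, 7], [0, 2, 6, 1, 6, 6, 4, 4], [1, 1, 6, 4, 2, 5, 5, 7], [0, 7, 0, 7, 2, 3, 7, 5], [0, 4, 1, 4, 2, 7, 5, 7], [0, 2, 4, 6, 0, 7, 4, 3], [0, 1, 1, 1, 0, 5, 3, 4]]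
def inv (x : ℕ) : ℕ := [0, 2, 1, 3, 5, 4, 7, 6].getD x 0
noncomputable def nl : List Net := [n0, n1, n2, n3, n4, n5, n6, n7, n8]
theorem nl_ok : allL (Net.ok (nat_lit 32)) nl = true := by decide +kernel
noncomputable def R : Rep := mkRep (nat_lit 5) (nat_lit 32) nl (by decide +kernel) nl_ok
def defs : List (List ℕ) := [[2, 0]]
theorem R_ge : ∀ x, 8 + defs.length ≤ x → R.p x = 1 := fun _ hx => mkRep_ge hx
def ngSt : List (List (ℕ × List ℕ) × List ℕ × ℕ × ℕ) := [([(0, [4]), (0, [])], [0], 3, 2), ([(1, [])], [3], 3, 2), ([(1, [])], [1], 7, 6), ([(3, [])], [2], 1, 6), ([(3, [])], [4], 3, 8), ([(5, [])], [5], 1, 8), ([(6, [])], [6], 3, 8), ([(7, [])], [7], 1, 8)]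
def ngR : List (List ℕ) := ngRels inv ngSt [[8]]
def xR : List (List ℕ) := [wpow [8] 7]
theorem c0 : relsW R 0 R.lg ((B.drop 0).take 34) = true := by decide +kernel
theorem c1 : defsChk R defs 8 = true := by decide +kernel
theorem c2 : Model.fixW R [] [[0], [1]] = true := by decide +kernel
theorem c3 : Model.growW R [[0], [1]] [0, 1, 0, 1, 0, 1, 1, 0, 1, 0] (Nat.pow 2 0) (ival 0 28) = true := by decide +kernel
theorem c4 : Model.fixW R [0] [[3], [4]] = true := by decide +kernel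
theorem c5 : Model.growW R [[3], [4]] [0, 1, 0, 1, 0, 1, 1, 0, 1, 0, 1] (Nat.pow 2 1) (ival 1 27) = true := by decide +kernel
theorem c6 : Model.fixW R [1, 0] [[6]] = true := by decide +kernel
theorem c7 : Model.growW R [[6]] [0, 0, 0, 0, 0, 0, 0] (Nat.pow 2 2) (ival 2 8) = true := by decide +kernel
theorem c8 : Model.growW R [[0], [1]] [0, 1, 0, 1, 0, 1, 1, 0, 1, 0] (Nat.pow 2 0) (ival 0 28) = true := by decide +kernel
theorem c9 : Model.invW R [[0], [1], [2], [3], [4], [5], [6], [7]] 0 28 = true := by decide +kernel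
theorem c10 : Model.fixW R [0] [[3], [4]] = true := by decide +kernel
theorem c11 : Model.growW R [[3], [4]] [0, 1, 0, 1, 0, 1, 0, 1, 1, 0] (Nat.pow 2 11) (ival 1 27) = true := by decide +kernel
theorem c12 : mapsW R [0] (Nat.pow 2 0) (Nat.pow 2 11) = true := by decide +kernel
theorem c13 : Model.growW R [[0], [3], [4]] [0, 1, 2, 0, 1, 0, 2, 2, 1, 2] (Nat.pow 2 0) (ival 0 28) = true := by decide +kernel
theorem c14 : relsW R 0 R.lg ((ngR.drop 0).take 16) = true := by decide +kernel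
theorem c15 : relsW R 0 R.lg ((xR.drop 0).take 1) = true := by decide +kernel
end H0.MU33
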